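import Groth.Agent.S0591
import Groth.Agent.S9187
import Groth.Agent.S9192
import Groth.Agent.S9219
import Groth.Prelude.Def_FEt

/-!
# Finite étale covers and their morphisms descend along cofiltered limits with affine transition maps
-/

set_option autoImplicit false
set_option backward.isDefEq.respectTransparency false

universe u

open CategoryTheory CategoryTheory.Limits AlgebraicGeometry

namespace Groth.Agent.FEtLim

variable {I : Type u} [SmallCategory I] (D : I ⥤ Scheme.{u}) (c : Cone D)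

omit [SmallCategory I] in
lemma paste_id {S S' X X' Y' : Scheme.{u}} {f₀ : X ⟶ S} {m : S' ⟶ S} {f : X' ⟶ Y'} {g : Y' ⟶ S'}
    {pY : Y' ⟶ S} {pX : X' ⟶ X} (hY : IsPullback pY g (𝟙 S) m) (hX : IsPullback pX f f₀ pY) :
    IsPullback pX (f ≫ g) f₀ m := by
  simpa using hX.paste_vert hY

variable {D c}

lemma exists_lift {i j : I} (φ : j ⟶ i) {X Xi Xj : Scheme.{u}} {f : X ⟶ c.pt} {fi : Xi ⟶ D.obj i}
    {g : X ⟶ Xi} {fj : Xj ⟶ D.obj j} {p : Xj ⟶ Xi} (h₁ : IsPullback g f fi (c.π.app i))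
    (h₂ : IsPullback p fj fi (D.map φ)) :
    ∃ l : X ⟶ Xj, IsPullback l f fj (c.π.app j) := by
  have hπ : c.π.app i = c.π.app j ≫ D.map φ := (c.w φ).symm
  let l := h₂.lift g (f ≫ c.π.app j) (by rw [h₁.w, hπ, Category.assoc])
  refine ⟨l, IsPullback.of_right ?_ (h₂.lift_snd _ _ _) h₂⟩
  rw [h₂.lift_fst, ← hπ]
  exact h₁

variable (D c) [IsCofiltered I] (hc : IsLimit c) [∀ (i j : I) (f : i ⟶ j), IsAffineHom (D.map f)]
  [∀ i, CompactSpace (D.obj i)] [∀ i, QuasiSeparatedSpace (D.obj i)]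

include hc

theorem exists_model (V : FEt.Cat c.pt) :
    ∃ (i : I) (Vi : FEt.Cat (D.obj i)), Nonempty ((FEt.restrict (c.π.app i)).obj Vi ≅ V) := by
  haveI : IsFinite V.hom := V.prop.1
  haveI : Etale V.hom := V.prop.2
  obtain ⟨i, Xi, fi, g, hlfp, hqc, hqs, h₁⟩ := Groth.Agent.S0591.result D c hc V.left V.hom
  haveI := hlfp
  haveI := hqc
  haveI := hqs
  haveI : CompactSpace Xi := QuasiCompact.compactSpace_of_compactSpace fi
  haveI : QuasiSeparatedSpace Xi := quasiSeparatedSpace_of_quasiSeparated fi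
  obtain ⟨j, φ, Xj, Yj, fj, gj, pY, pX, hY, hX, hfin⟩ :=
    Groth.Agent.S9187.result D c hc i fi (𝟙 (D.obj i)) V.hom (𝟙 c.pt) (c.π.app i) g
      (IsPullback.of_id_snd ..) h₁
  haveI := hfin
  haveI : IsIso gj := MorphismProperty.of_isPullback (P := MorphismProperty.isomorphisms Scheme.{u}) hY
    (inferInstanceAs (IsIso (𝟙 (D.obj i))))
  have h₂ := paste_id hY hX
  obtain ⟨l, h₃⟩ := exists_lift φ h₁ h₂
  haveI : IsFinite (fj ≫ gj) := inferInstance
  haveI : LocallyOfFinitePresentation (fj ≫ gj) :=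
    MorphismProperty.of_isPullback (P := @LocallyOfFinitePresentation) h₂ hlfp
  haveI : CompactSpace Xj := QuasiCompact.compactSpace_of_compactSpace (fj ≫ gj)
  haveI : QuasiSeparatedSpace Xj := quasiSeparatedSpace_of_quasiSeparated (fj ≫ gj)
  obtain ⟨k, ψ, Xk, Yk, fk, gk, qY, qX, hY', hX', het⟩ :=
    Groth.Agent.S9192.result D c hc j (fj ≫ gj) (𝟙 (D.obj j)) V.hom (𝟙 c.pt) (c.π.app j) l
      (IsPullback.of_id_snd ..) h₃
  haveI := het
  haveI : IsIso gk := MorphismProperty.of_isPullback (P := MorphismProperty.isomorphisms Scheme.{u}) hY'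
    (inferInstanceAs (IsIso (𝟙 (D.obj j))))
  have h₄ := paste_id hY' hX'
  obtain ⟨m, h₅⟩ := exists_lift ψ h₃ h₄
  have hfin' : IsFinite (fk ≫ gk) :=
    MorphismProperty.of_isPullback (P := @IsFinite) h₄ ‹IsFinite (fj ≫ gj)›
  have het' : Etale (fk ≫ gk) := inferInstance
  refine ⟨k, MorphismProperty.Over.mk ⊤ (fk ≫ gk) ⟨hfin', het'⟩, ⟨MorphismProperty.Over.isoMk ?_ ?_⟩⟩
  · exact ((IsPullback.of_hasPullback (fk ≫ gk) (c.π.app k)).isoIsPullback _ _ h₅)
  · exact IsPullback.isoIsPullback_hom_snd ..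

theorem exists_map_eq {i : I} {Vi Wi : FEt.Cat (D.obj i)} (φ ψ : Vi ⟶ Wi)
    (h : (FEt.restrict (c.π.app i)).map φ = (FEt.restrict (c.π.app i)).map ψ) :
    ∃ (j : I) (a : j ⟶ i), (FEt.restrict (D.map a)).map φ = (FEt.restrict (D.map a)).map ψ := by
  let vh : Vi.left ⟶ D.obj i := Vi.hom
  let wh : Wi.left ⟶ D.obj i := Wi.hom
  haveI : IsFinite vh := Vi.prop.1
  haveI : Etale vh := Vi.prop.2
  haveI : IsFinite wh := Wi.prop.1
  haveI : Etale wh := Wi.prop.2
  haveI hc₁ : CompactSpace Vi.left := QuasiCompact.compactSpace_of_compactSpace vh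
  haveI hq₁ : QuasiSeparatedSpace Vi.left := quasiSeparatedSpace_of_quasiSeparated vh
  haveI hc₂ : CompactSpace Wi.left := QuasiCompact.compactSpace_of_compactSpace wh
  haveI hq₂ : QuasiSeparatedSpace Wi.left := quasiSeparatedSpace_of_quasiSeparated wh
  have hmap : ∀ {T : Scheme.{u}} (t : T ⟶ D.obj i) (χ : Vi ⟶ Wi),
      ((FEt.restrict t).map χ).left ≫ pullback.fst Wi.hom t = pullback.fst Vi.hom t ≫ χ.left :=
    fun t χ => pullback.lift_fst _ _ _
  obtain ⟨j, a, ha⟩ := @Groth.Agent.S9219.result I _ _ D c hc _ i Vi.left Wi.left vh wh hc₁ hq₁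
    inferInstance hc₂ hq₂ inferInstance _
    (pullback.fst Vi.hom (c.π.app i)) (pullback.snd _ _) (IsPullback.of_hasPullback _ _)
    φ.left ψ.left (MorphismProperty.Over.w φ) (MorphismProperty.Over.w ψ) (by rw [← hmap, ← hmap, h])
  refine ⟨j, a, MorphismProperty.Over.Hom.ext (pullback.hom_ext ?_ ?_)⟩
  · rw [hmap, hmap, ha]
  · exact (MorphismProperty.Over.w ((FEt.restrict (D.map a)).map φ)).trans
      (MorphismProperty.Over.w ((FEt.restrict (D.map a)).map ψ)).symm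

end Groth.Agent.FEtLim
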